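import Groth.Prelude.Def_Flat
import Mathlib.AlgebraicGeometry.Morphisms.Integral
import Mathlib.AlgebraicGeometry.Morphisms.UniversallyInjective
import Mathlib.AlgebraicGeometry.Morphisms.UniversallyOpen
import Mathlib.AlgebraicGeometry.Morphisms.Finite

/-!
Universal homeomorphisms: `FlatMor.IsUnivHomeo f` iff integral, universally injective, surjective.
-/

open CategoryTheory AlgebraicGeometry Limits MorphismProperty

universe u

namespace Groth.Agent.Lib.UnivHomeo.Basic

variable {X Y Z : Scheme.{u}}

theorem isUnivHomeo_eq :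
    (FlatMor.IsUnivHomeo : MorphismProperty Scheme.{u}) =
      universally (topologically (fun f => IsHomeomorph f)) := rfl

instance respectsIso_isUnivHomeo : MorphismProperty.RespectsIso (FlatMor.IsUnivHomeo.{u}) :=
  inferInstanceAs (MorphismProperty.RespectsIso (universally _))

instance isStableUnderBaseChange_isUnivHomeo :
    MorphismProperty.IsStableUnderBaseChange (FlatMor.IsUnivHomeo.{u}) :=
  inferInstanceAs (MorphismProperty.IsStableUnderBaseChange (universally _))

theorem isHomeomorph {f : X ⟶ Y} (h : FlatMor.IsUnivHomeo f) : IsHomeomorph f :=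
  universally_le _ f h

theorem universallyInjective {f : X ⟶ Y} (h : FlatMor.IsUnivHomeo f) : UniversallyInjective f := by
  rw [universallyInjective_iff]
  have le : topologically (fun f => IsHomeomorph f) ≤
      (topologically (Function.Injective ·) : MorphismProperty Scheme.{u}) :=
    fun _ _ _ hf => hf.injective
  exact universally_mono le _ h

theorem surjective {f : X ⟶ Y} (h : FlatMor.IsUnivHomeo f) : Surjective f :=
  ⟨(isHomeomorph h).surjective⟩

theorem universallyClosed {f : X ⟶ Y} (h : FlatMor.IsUnivHomeo f) : UniversallyClosed f := by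
  constructor
  have le : topologically (fun f => IsHomeomorph f) ≤
      (topologically @IsClosedMap : MorphismProperty Scheme.{u}) :=
    fun _ _ _ hf => hf.isClosedMap
  exact universally_mono le _ h

theorem universallyOpen {f : X ⟶ Y} (h : FlatMor.IsUnivHomeo f) : UniversallyOpen f := by
  constructor
  have le : topologically (fun f => IsHomeomorph f) ≤
      (topologically @IsOpenMap : MorphismProperty Scheme.{u}) :=
    fun _ _ _ hf => hf.isOpenMap
  exact universally_mono le _ h

theorem isAffineHom {f : X ⟶ Y} (h : FlatMor.IsUnivHomeo f) : IsAffineHom f :=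
  isAffineHom_of_isInducing f (isHomeomorph h).isEmbedding.isInducing
    (by rw [(isHomeomorph h).surjective.range_eq]; exact isClosed_univ)

theorem isIntegralHom {f : X ⟶ Y} (h : FlatMor.IsUnivHomeo f) : IsIntegralHom f :=
  IsIntegralHom.iff_universallyClosed_and_isAffineHom.mpr ⟨universallyClosed h, isAffineHom h⟩

theorem isHomeomorph_of_universallyClosed_injective_surjective (f : X ⟶ Y) [UniversallyClosed f]
    [Surjective f] (hinj : Function.Injective f) : IsHomeomorph f := by
  refine ⟨f.continuous, ?_, hinj, f.surjective⟩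
  intro U hU
  have := (f.isClosedMap _ hU.isClosed_compl).isOpen_compl
  rwa [Set.image_compl_eq ⟨hinj, f.surjective⟩, compl_compl] at this

theorem of_universallyClosed (f : X ⟶ Y) [UniversallyClosed f] [UniversallyInjective f]
    [Surjective f] : FlatMor.IsUnivHomeo f := by
  intro X' Y' g₁ g₂ f' H
  have : UniversallyClosed f' := MorphismProperty.of_isPullback H.flip ‹_›
  have : UniversallyInjective f' := MorphismProperty.of_isPullback H.flip ‹_›
  have : Surjective f' := MorphismProperty.of_isPullback H.flip ‹_›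
  exact isHomeomorph_of_universallyClosed_injective_surjective f' f'.injective

theorem iff_integral_universallyInjective_surjective (f : X ⟶ Y) :
    FlatMor.IsUnivHomeo f ↔ IsIntegralHom f ∧ UniversallyInjective f ∧ Surjective f := by
  refine ⟨fun h => ⟨isIntegralHom h, universallyInjective h, surjective h⟩, fun ⟨_, _, _⟩ => ?_⟩
  exact of_universallyClosed f

theorem isFinite {f : X ⟶ Y} (h : FlatMor.IsUnivHomeo f) [LocallyOfFiniteType f] : IsFinite f :=
  (IsFinite.iff_isIntegralHom_and_locallyOfFiniteType _).mpr ⟨isIntegralHom h, ‹_›⟩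

theorem comp {f : X ⟶ Y} {g : Y ⟶ Z} (hf : FlatMor.IsUnivHomeo f) (hg : FlatMor.IsUnivHomeo g) :
    FlatMor.IsUnivHomeo (f ≫ g) := by
  rw [iff_integral_universallyInjective_surjective] at hf hg ⊢
  obtain ⟨_, _, _⟩ := hf
  obtain ⟨_, _, _⟩ := hg
  exact ⟨inferInstance, MorphismProperty.comp_mem _ _ _ ‹_› ‹_›, inferInstance⟩

theorem of_isIso (f : X ⟶ Y) [IsIso f] : FlatMor.IsUnivHomeo f :=
  of_universallyClosed f

theorem of_isClosedImmersion_surjective (f : X ⟶ Y) [IsClosedImmersion f] [Surjective f] :
    FlatMor.IsUnivHomeo f :=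
  of_universallyClosed f

/-- Cancel a universal homeomorphism on the left. -/
theorem of_comp_left {f : X ⟶ Y} {g : Y ⟶ Z} (hfg : FlatMor.IsUnivHomeo (f ≫ g))
    (hf : FlatMor.IsUnivHomeo f) : FlatMor.IsUnivHomeo g := by
  intro Y' Z' g₁ g₂ g' H
  have H' := (IsPullback.of_hasPullback f g₁).flip
  have hf' : IsHomeomorph (pullback.snd f g₁) := hf _ _ _ (IsPullback.of_hasPullback f g₁).flip
  have hc : IsHomeomorph (pullback.snd f g₁ ≫ g') :=
    hfg _ _ _ (((IsPullback.of_hasPullback f g₁).flip).paste_horiz H)
  let e₁ := hf'.homeomorph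
  have : (g' : Y' → Z') = (pullback.snd f g₁ ≫ g') ∘ e₁.symm := by
    ext y
    conv_lhs => rw [← e₁.apply_symm_apply y]
    rfl
  show IsHomeomorph (g' : Y' → Z')
  rw [this]
  exact hc.comp e₁.symm.isHomeomorph

/-- Cancel a universal homeomorphism on the right. -/
theorem of_comp_right {f : X ⟶ Y} {g : Y ⟶ Z} (hfg : FlatMor.IsUnivHomeo (f ≫ g))
    (hg : FlatMor.IsUnivHomeo g) : FlatMor.IsUnivHomeo f := by
  rw [iff_integral_universallyInjective_surjective] at hfg hg ⊢
  obtain ⟨_, hi, hs⟩ := hfg
  obtain ⟨_, _, _⟩ := hg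
  refine ⟨IsIntegralHom.of_comp f g, ?_, ⟨?_⟩⟩
  · have hi' : ∀ (K : Type u) [Field K],
        Function.Injective (fun a : Spec (.of K) ⟶ X ↦ a ≫ f ≫ g) :=
      ((tfae_universallyInjective (f ≫ g)).out 0 1 rfl rfl).mp hi
    exact ((tfae_universallyInjective f).out 1 0 rfl rfl).mp fun K _ a b h =>
      hi' K (by simp only at h ⊢; rw [← Category.assoc, h, Category.assoc])
  · intro y
    obtain ⟨x, hx⟩ := hs.1 (g y)
    exact ⟨x, g.injective (by simpa using hx)⟩

end Groth.Agent.Lib.UnivHomeo.Basic
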